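import Cfsg.Agent.ThreeHalves.Regular

/-!
# Wielandt's theorem on regular normal subgroups of 3/2-transitive groups
-/

set_option autoImplicit false

namespace CfsgLib.ThreeHalves.Setup

variable {G Ω : Type*} [Group G] [MulAction G Ω] {N : Subgroup G} {a : Ω} {k : ℕ}
  [Finite G] [Finite Ω] [FaithfulSMul G Ω]

/-- `M` is a minimal non-trivial subgroup of `N` normalised by `N`. -/
def IsMin (N M : Subgroup G) : Prop :=
  M ≠ ⊥ ∧ M ≤ N ∧ (∀ n ∈ N, ∀ x ∈ M, n * x * n⁻¹ ∈ M) ∧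
    ∀ M' : Subgroup G, M' ≤ M → M' ≠ ⊥ → (∀ n ∈ N, ∀ x ∈ M', n * x * n⁻¹ ∈ M') → M' = M

omit [MulAction G Ω] [Finite Ω] [FaithfulSMul G Ω] in
theorem exists_isMin (hN : N ≠ ⊥) : ∃ M, IsMin N M := by
  obtain ⟨M, ⟨hM0, hMN, hMn⟩, hmin⟩ := Set.Finite.exists_minimal
    (s := {M : Subgroup G | M ≠ ⊥ ∧ M ≤ N ∧ ∀ n ∈ N, ∀ x ∈ M, n * x * n⁻¹ ∈ M})
    (Set.toFinite _) ⟨N, hN, le_rfl, fun n hn x hx => N.mul_mem (N.mul_mem hn hx) (N.inv_mem hn)⟩
  exact ⟨M, hM0, hMN, hMn, fun M' h h0 hn => le_antisymm h (hmin ⟨h0, h.trans hMN, hn⟩ h)⟩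

/-- The map of `IsMin` subgroups under an element of a point stabiliser. -/
theorem isMin_map (s : Setup N a k) (h : G) {M : Subgroup G} (hM : IsMin N M) :
    IsMin N (M.map (MulAut.conj h).toMonoidHom) := by
  obtain ⟨h0, hN, hn, hmin⟩ := hM
  refine ⟨fun e => h0 ((Subgroup.map_eq_bot_iff_of_injective _ (MulAut.conj h).injective).1 e),
    ?_, ?_, ?_⟩
  · rintro _ ⟨x, hx, rfl⟩
    exact s.conj_mem (hN hx) h
  · rintro n hn' _ ⟨x, hx, rfl⟩
    refine ⟨h⁻¹ * n * (h⁻¹)⁻¹ * x * (h⁻¹ * n * (h⁻¹)⁻¹)⁻¹, hn _ (s.conj_mem hn' _) x hx, ?_⟩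
    simp only [MulEquiv.coe_toMonoidHom, MulAut.conj_apply]
    group
  · intro M' hle hne hinv
    have h1 := hmin (M'.map (MulAut.conj h⁻¹).toMonoidHom) ?_ ?_ ?_
    · refine le_antisymm hle ?_
      rintro _ ⟨x, hx, rfl⟩
      rw [← h1] at hx
      obtain ⟨y, hy, rfl⟩ := hx
      simp only [MulEquiv.coe_toMonoidHom, MulAut.conj_apply]
      rw [show h * (h⁻¹ * y * (h⁻¹)⁻¹) * h⁻¹ = y by group]
      exact hy
    · rintro _ ⟨y, hy, rfl⟩
      obtain ⟨x, hx, rfl⟩ := hle hy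
      simp only [MulEquiv.coe_toMonoidHom, MulAut.conj_apply]
      rw [show h⁻¹ * (h * x * h⁻¹) * (h⁻¹)⁻¹ = x by group]
      exact hx
    · exact fun e => hne ((Subgroup.map_eq_bot_iff_of_injective _ (MulAut.conj h⁻¹).injective).1 e)
    · rintro n hn' _ ⟨y, hy, rfl⟩
      refine ⟨h * n * h⁻¹ * y * (h * n * h⁻¹)⁻¹, hinv _ (s.conj_mem hn' h) y hy, ?_⟩
      simp only [MulEquiv.coe_toMonoidHom, MulAut.conj_apply]
      group

omit [MulAction G Ω] [Finite G] [Finite Ω] [FaithfulSMul G Ω] in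
theorem inter_eq_bot {M M' : Subgroup G} (hM : IsMin N M) (hM' : IsMin N M') (hne : M ≠ M') :
    M ⊓ M' = ⊥ := by
  by_contra h
  have hinv : ∀ n ∈ N, ∀ x ∈ M ⊓ M', n * x * n⁻¹ ∈ M ⊓ M' := fun n hn x hx =>
    ⟨hM.2.2.1 n hn x hx.1, hM'.2.2.1 n hn x hx.2⟩
  exact hne ((hM.2.2.2 _ inf_le_left h hinv).symm.trans (hM'.2.2.2 _ inf_le_right h hinv))

omit [MulAction G Ω] [Finite G] [Finite Ω] [FaithfulSMul G Ω] in
theorem commute_of_ne {M M' : Subgroup G} (hM : IsMin N M) (hM' : IsMin N M') (hne : M ≠ M')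
    {x y : G} (hx : x ∈ M) (hy : y ∈ M') : x * y = y * x := by
  have h1 : x * y * x⁻¹ * y⁻¹ ∈ M ⊓ M' := by
    refine ⟨?_, M'.mul_mem (hM'.2.2.1 x (hM.2.1 hx) y hy) (M'.inv_mem hy)⟩
    rw [show x * y * x⁻¹ * y⁻¹ = x * (y * x⁻¹ * y⁻¹) by group]
    exact M.mul_mem hx (hM.2.2.1 y (hM'.2.1 hy) x⁻¹ (M.inv_mem hx))
  rw [inter_eq_bot hM hM' hne, Subgroup.mem_bot] at h1
  calc x * y = (x * y * x⁻¹ * y⁻¹) * (y * x) := by group
    _ = y * x := by rw [h1, one_mul]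

/-- The elements of `N` whose stabiliser contains that of `x`. -/
def fixed (N : Subgroup G) (a : Ω) (x : G) : Subgroup G :=
  N ⊓ Subgroup.centralizer ((Subgroup.map (MulAction.stabilizer G a).subtype (stab a x)) : Set G)

theorem mem_fixed (s : Setup N a k) {x n : G} (hn : n ∈ N) :
    n ∈ fixed N a x ↔ stab a x ≤ stab a n := by
  rw [fixed, Subgroup.mem_inf, Subgroup.mem_centralizer_iff]
  constructor
  · intro h g hg
    have h1 : (g : G) * n = n * (g : G) := h.2 _ ⟨g, hg, rfl⟩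
    rw [s.mem_stab hn, h1]
    group
  · intro h
    refine ⟨hn, ?_⟩
    rintro _ ⟨g, hg, rfl⟩
    have h1 := (s.mem_stab hn).1 (h hg)
    exact mul_inv_eq_iff_eq_mul.1 h1

/-- The regular normal subgroup is abelian. -/
theorem commutative (s : Setup N a k) : ∀ x ∈ N, ∀ y ∈ N, x * y = y * x := by
  by_contra hcon
  push Not at hcon
  obtain ⟨x₀, hx₀, y₀, hy₀, hxy⟩ := hcon
  have hN : N ≠ ⊥ := fun e => hxy (by
    rw [e, Subgroup.mem_bot] at hx₀ hy₀
    rw [hx₀, hy₀])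
  -- trivial centre
  have hZ : N ⊓ Subgroup.centralizer (N : Set G) = ⊥ := by
    by_contra hne
    have h1 := s.eq_of_invariant (N ⊓ Subgroup.centralizer (N : Set G)) inf_le_left hne (by
      intro h u hu
      refine ⟨s.conj_mem hu.1 _, Subgroup.mem_centralizer_iff.2 fun n hn => ?_⟩
      have h2 := Subgroup.mem_centralizer_iff.1 hu.2 _ (s.conj_mem hn (h : G)⁻¹)
      calc n * ((h : G) * u * (h : G)⁻¹)
          = (h : G) * ((h : G)⁻¹ * n * ((h : G)⁻¹)⁻¹ * u) * (h : G)⁻¹ := by group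
        _ = _ := by rw [h2]; group)
    have h3 : y₀ ∈ N ⊓ Subgroup.centralizer (N : Set G) := by rw [h1]; exact hy₀
    exact hxy (Subgroup.mem_centralizer_iff.1 h3.2 x₀ hx₀)
  have hjoin : ∀ P : Subgroup G → Prop, (∀ h : MulAction.stabilizer G a, ∀ M, IsMin N M → P M →
      P (M.map (MulAut.conj (h : G)).toMonoidHom)) → (∃ M, IsMin N M ∧ P M) →
      ∀ V : Subgroup G, (∀ M, IsMin N M → P M → M ≤ V) → N ≤ V := by
    intro P hP hex V hV
    obtain ⟨M₀, hM₀, hP₀⟩ := hex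
    let S : Subgroup G := ⨆ M : {M : Subgroup G // IsMin N M ∧ P M}, (M : Subgroup G)
    have hS : S = N := by
      refine s.eq_of_invariant S (iSup_le fun M => M.2.1.2.1) ?_ ?_
      · intro e
        refine hM₀.1 (eq_bot_iff.2 ?_)
        rw [← e]
        exact le_iSup (fun M : {M : Subgroup G // IsMin N M ∧ P M} => (M : Subgroup G))
          ⟨M₀, hM₀, hP₀⟩
      · intro h u hu
        have h1 : S.map (MulAut.conj (h : G)).toMonoidHom ≤ S := by
          rw [Subgroup.map_iSup]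
          exact iSup_le fun M => le_iSup_of_le
            (⟨_, s.isMin_map (h : G) M.2.1, hP h _ M.2.1 M.2.2⟩ :
              {M : Subgroup G // IsMin N M ∧ P M}) le_rfl
        exact h1 ⟨u, hu, rfl⟩
    exact hS ▸ iSup_le fun M => hV M M.2.1 M.2.2
  -- minimal subgroups are not abelian
  have hMab : ∀ M, IsMin N M → M ⊓ Subgroup.centralizer (M : Set G) = ⊥ := by
    intro M hM
    by_contra hne
    have hab : ∀ M' : Subgroup G, IsMin N M' →
        M' ⊓ Subgroup.centralizer (M' : Set G) ≠ ⊥ → M' ≤ Subgroup.centralizer (M' : Set G) := by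
      intro M' hM' h0
      have := hM'.2.2.2 _ inf_le_left h0 (fun n hn x hx => by
        refine ⟨hM'.2.2.1 n hn x hx.1, Subgroup.mem_centralizer_iff.2 fun z hz => ?_⟩
        have h2 := Subgroup.mem_centralizer_iff.1 hx.2 _ (hM'.2.2.1 n⁻¹ (N.inv_mem hn) z hz)
        calc z * (n * x * n⁻¹) = n * (n⁻¹ * z * (n⁻¹)⁻¹ * x) * n⁻¹ := by group
          _ = _ := by rw [h2]; group)
      intro z hz
      rw [← this] at hz
      exact hz.2
    have hNM : N ≤ Subgroup.centralizer (M : Set G) := by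
      refine hjoin (fun M' => M' ≤ Subgroup.centralizer (M' : Set G)) ?_ ⟨M, hM, hab M hM hne⟩ _ ?_
      · rintro h M' - hM' _ ⟨x, hx, rfl⟩
        refine Subgroup.mem_centralizer_iff.2 ?_
        rintro _ ⟨z, hz, rfl⟩
        rw [← map_mul, ← map_mul, Subgroup.mem_centralizer_iff.1 (hM' hx) z hz]
      · intro M' hM' hP x hx
        refine Subgroup.mem_centralizer_iff.2 fun z hz => ?_
        rcases eq_or_ne M' M with rfl | hne'
        · exact Subgroup.mem_centralizer_iff.1 (hP hx) z hz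
        · exact commute_of_ne hM hM' hne'.symm hz hx
    refine hM.1 (eq_bot_iff.2 fun x hx => ?_)
    rw [← hZ]
    exact ⟨hM.2.1 hx, Subgroup.mem_centralizer_iff.2 fun n hn =>
      (Subgroup.mem_centralizer_iff.1 (hNM hn) x hx).symm⟩
  -- all points have the same stabiliser
  obtain ⟨M₀, hM₀⟩ := exists_isMin hN
  obtain ⟨x, hxM, hx1⟩ := (Subgroup.ne_bot_iff_exists_ne_one.1 hM₀.1).elim fun u hu =>
    (⟨u.1, u.2, fun e => hu (Subtype.ext e)⟩ : ∃ u ∈ M₀, u ≠ (1 : G))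
  have hxN := hM₀.2.1 hxM
  -- a commutator of an element of a minimal subgroup
  have hcomm : ∀ M, IsMin N M → ∀ y ∈ M, y ≠ 1 → ∃ m ∈ M, m * y * m⁻¹ * y⁻¹ ≠ 1 := by
    intro M hM y hy hy1
    by_contra hall
    push Not at hall
    refine hy1 (Subgroup.mem_bot.1 ?_)
    rw [← hMab M hM]
    exact ⟨hy, Subgroup.mem_centralizer_iff.2 fun m hm =>
      mul_inv_eq_iff_eq_mul.1 (mul_inv_eq_one.1 (hall m hm))⟩
  have hself : ∀ M, IsMin N M → ∀ y ∈ M, y ≠ 1 → ∀ z ∈ M, z ≠ 1 → stab a y = stab a z := by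
    intro M hM y hy hy1 z hz hz1
    have hyN := hM.2.1 hy
    let W : Subgroup G := Subgroup.closure {c | ∃ n ∈ N, n * y * n⁻¹ = c}
    have hWM : W ≤ M := by
      rw [Subgroup.closure_le]
      rintro _ ⟨n, hn, rfl⟩
      exact hM.2.2.1 n hn y hy
    have hWn : ∀ n ∈ N, ∀ c ∈ W, n * c * n⁻¹ ∈ W := by
      intro n hn c hc
      have h1 : W.map (MulAut.conj n).toMonoidHom ≤ W := by
        rw [MonoidHom.map_closure, Subgroup.closure_le]
        rintro _ ⟨_, ⟨l, hl, rfl⟩, rfl⟩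
        refine Subgroup.subset_closure ⟨n * l, N.mul_mem hn hl, ?_⟩
        simp only [MulEquiv.coe_toMonoidHom, MulAut.conj_apply]
        group
      exact h1 ⟨c, hc, rfl⟩
    have hW0 : W ≠ ⊥ := fun e => hy1 (Subgroup.mem_bot.1
      (e ▸ Subgroup.subset_closure ⟨1, N.one_mem, by simp⟩))
    have hWe := hM.2.2.2 W hWM hW0 hWn
    have hle : W ≤ fixed N a y := by
      rw [Subgroup.closure_le]
      rintro _ ⟨n, hn, rfl⟩
      exact (s.mem_fixed (s.conj_mem hyN n)).2 (s.stab_conj hyN hy1 hn).le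
    exact s.stab_eq_of_le hyN (hM.2.1 hz) hy1 hz1
      ((s.mem_fixed (hM.2.1 hz)).1 (hle (hWe.symm ▸ hz)))
  have hall : ∀ M, IsMin N M → M ≤ fixed N a x := by
    intro M hM y hy
    rw [s.mem_fixed (hM.2.1 hy)]
    rcases eq_or_ne y 1 with rfl | hy1
    · intro g _
      rw [s.mem_stab N.one_mem]
      simp
    rcases eq_or_ne M M₀ with rfl | hne
    · exact (hself M hM x hxM hx1 y hy hy1).le
    have hcm : ∀ u ∈ M₀, ∀ v ∈ M, u * v = v * u := fun u hu v hv =>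
      commute_of_ne hM₀ hM hne.symm hu hv
    have hyN := hM.2.1 hy
    have hxy1 : x * y ≠ 1 := fun e => hx1 (by
      have h1 : x ∈ M₀ ⊓ M := ⟨hxM, by rw [eq_inv_of_mul_eq_one_left e]; exact M.inv_mem hy⟩
      rw [inter_eq_bot hM₀ hM hne.symm, Subgroup.mem_bot] at h1
      exact h1)
    have hxyN := N.mul_mem hxN hyN
    have hkey : ∀ m ∈ N, ∀ z, z ≠ 1 → m * (x * y) * m⁻¹ * (x * y)⁻¹ = z →
        stab a (x * y) = stab a z := by
      intro m hm z hz hmz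
      have hzN : z ∈ N := hmz ▸ N.mul_mem (s.conj_mem hxyN m) (N.inv_mem hxyN)
      refine s.stab_eq_of_le hxyN hzN hxy1 hz ((s.mem_fixed hzN).1 ?_)
      rw [← hmz]
      exact (fixed N a (x * y)).mul_mem
        ((s.mem_fixed (s.conj_mem hxyN m)).2 (s.stab_conj hxyN hxy1 hm).le)
        ((fixed N a (x * y)).inv_mem ((s.mem_fixed hxyN).2 le_rfl))
    obtain ⟨m, hm, hm1⟩ := hcomm M₀ hM₀ x hxM hx1
    obtain ⟨m', hm', hm1'⟩ := hcomm M hM y hy hy1
    have e1 := hkey m (hM₀.2.1 hm) _ hm1 (by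
      calc m * (x * y) * m⁻¹ * (x * y)⁻¹ = m * x * (y * m⁻¹) * y⁻¹ * x⁻¹ := by group
        _ = _ := by rw [← hcm m⁻¹ (M₀.inv_mem hm) y hy]; group)
    have e2 := hkey m' (hM.2.1 hm') _ hm1' (by
      calc m' * (x * y) * m'⁻¹ * (x * y)⁻¹ = (m' * x) * (y * m'⁻¹ * y⁻¹) * x⁻¹ := by group
        _ = (x * m') * (y * m'⁻¹ * y⁻¹) * x⁻¹ := by rw [hcm x hxM m' hm']
        _ = x * (m' * y * m'⁻¹ * y⁻¹) * x⁻¹ := by group
        _ = _ := by
          rw [hcm x hxM _ (M.mul_mem (hM.2.2.1 m' (hM.2.1 hm') y hy) (M.inv_mem hy))]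
          group)
    have f1 := hself M₀ hM₀ x hxM hx1 _
      (M₀.mul_mem (hM₀.2.2.1 m (hM₀.2.1 hm) x hxM) (M₀.inv_mem hxM)) hm1
    have f2 := hself M hM y hy hy1 _
      (M.mul_mem (hM.2.2.1 m' (hM.2.1 hm') y hy) (M.inv_mem hy)) hm1'
    exact (f1.trans (e1.symm.trans (e2.trans f2.symm))).le
  have hNfix : N ≤ fixed N a x :=
    hjoin (fun _ => True) (fun _ _ _ _ => trivial) ⟨M₀, hM₀, trivial⟩ _ fun M hM _ => hall M hM
  exact s.contra_of_common x hxN hx1 fun n hn hn1 =>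
    s.stab_eq_of_le hxN hn hx1 hn1 ((s.mem_fixed hn).1 (hNfix hn))

/-- The regular normal subgroup is elementary abelian. -/
theorem exists_exponent (s : Setup N a k) : ∃ p : ℕ, p.Prime ∧ ∀ x ∈ N, x ^ p = 1 := by
  by_cases hN : N = ⊥
  · exact ⟨2, Nat.prime_two, fun x hx => by rw [hN, Subgroup.mem_bot] at hx; simp [hx]⟩
  have h1 : Nat.card N ≠ 1 := fun e => hN (N.eq_bot_of_card_eq e)
  obtain ⟨p, hp, hdvd⟩ := Nat.exists_prime_and_dvd h1
  have := Fact.mk hp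
  refine ⟨p, hp, ?_⟩
  let U : Subgroup G :=
    { carrier := {x | x ∈ N ∧ x ^ p = 1}
      one_mem' := ⟨N.one_mem, one_pow p⟩
      mul_mem' := fun {x y} hx hy => ⟨N.mul_mem hx.1 hy.1, by
        rw [(show Commute x y from s.commutative x hx.1 y hy.1).mul_pow, hx.2, hy.2, one_mul]⟩
      inv_mem' := fun {x} hx => ⟨N.inv_mem hx.1, by rw [inv_pow, hx.2, inv_one]⟩ }
  have hU : U = N := by
    refine s.eq_of_invariant U (fun x hx => hx.1) ?_ fun h u hu =>
      ⟨s.conj_mem hu.1 _, by rw [conj_pow, hu.2]; simp⟩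
    intro e
    obtain ⟨y, hy⟩ := exists_prime_orderOf_dvd_card' p hdvd
    have hy1 : (y : G) ∈ U := ⟨y.2, by
      rw [← Subgroup.coe_pow, ← hy, pow_orderOf_eq_one, Subgroup.coe_one]⟩
    rw [e, Subgroup.mem_bot] at hy1
    have : y = 1 := Subtype.ext hy1
    rw [this, orderOf_one] at hy
    exact hp.one_lt.ne hy
  intro x hx
  rw [← hU] at hx
  exact hx.2

/-- Every non-trivial normal subgroup contains the regular one. -/
theorem le_normal (s : Setup N a k) (M : Subgroup G) (hM : M.Normal) (hM0 : M ≠ ⊥) : N ≤ M := by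
  by_cases h : N ⊓ M = ⊥
  · exfalso
    refine hM0 (eq_bot_iff.2 fun m hm => ?_)
    have hc : ∀ n ∈ N, n * m = m * n := by
      intro n hn
      have h1 : n * m * n⁻¹ * m⁻¹ ∈ N ⊓ M := by
        refine ⟨?_, M.mul_mem (hM.conj_mem m hm n) (M.inv_mem hm)⟩
        rw [show n * m * n⁻¹ * m⁻¹ = n * (m * n⁻¹ * m⁻¹) by group]
        exact N.mul_mem hn (s.conj_mem (N.inv_mem hn) m)
      rw [h, Subgroup.mem_bot] at h1
      calc n * m = (n * m * n⁻¹ * m⁻¹) * (m * n) := by group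
        _ = m * n := by rw [h1, one_mul]
    obtain ⟨n₀, hn₀, e⟩ := s.surj (m • a)
    have hm' : m = n₀ := by
      refine eq_of_smul_eq_smul (α := Ω) fun b => ?_
      obtain ⟨l, hl, rfl⟩ := s.surj b
      rw [← mul_smul, ← mul_smul, ← hc l hl, ← s.commutative l hl n₀ hn₀, mul_smul, mul_smul, e]
    rw [← h]
    exact ⟨hm' ▸ hn₀, hm⟩
  · have h1 := s.eq_of_invariant (N ⊓ M) inf_le_left h fun g u hu =>
      ⟨s.conj_mem hu.1 _, hM.conj_mem u hu.2 _⟩
    exact h1 ▸ inf_le_right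

end CfsgLib.ThreeHalves.Setup
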