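import Mathlib

/-!
# Half-transitive groups of automorphisms

If `H` fixes a point `a` and all its other orbits have size `k`, a subgroup `B` that preserves a
set `K` of size prime to `k` avoiding `a` and contains the stabilisers of the points of `K` fixes
`K` pointwise.
-/

set_option autoImplicit false

namespace CfsgLib.ThreeHalves

variable {H Ω : Type*} [Group H] [Finite H] [MulAction H Ω] [Finite Ω]

theorem fix_of_coprime (k : ℕ) (B : Subgroup H) (K : Set Ω)
    (hK : ∀ b ∈ B, ∀ x ∈ K, b • x ∈ K)
    (hstab : ∀ x ∈ K, MulAction.stabilizer H x ≤ B)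
    (hk : ∀ x ∈ K, Nat.card (MulAction.orbit H x) = k)
    (hcop : (Nat.card K).Coprime k) :
    ∀ x ∈ K, B ≤ MulAction.stabilizer H x := by
  classical
  intro x hx
  let S : SubMulAction B Ω :=
    { carrier := K, smul_mem' := fun b y hy => hK b.1 b.2 y hy }
  have hidx : ∀ y : S, Nat.card (MulAction.orbit B y) * B.index = k := by
    intro y
    have h1 : MulAction.stabilizer B y =
        (MulAction.stabilizer H (y : Ω)).subgroupOf B := by
      ext b
      rw [MulAction.mem_stabilizer_iff, Subgroup.mem_subgroupOf, MulAction.mem_stabilizer_iff,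
        Subtype.ext_iff]
      rfl
    rw [Nat.card_coe_set_eq, ← MulAction.index_stabilizer, h1,
      ← hk y.1 y.2, Nat.card_coe_set_eq, ← MulAction.index_stabilizer]
    exact Subgroup.relIndex_mul_index (hstab y.1 y.2)
  let x' : S := ⟨x, hx⟩
  have hdvd : Nat.card (MulAction.orbit B x') ∣ Nat.card S := by
    have : Fintype (MulAction.orbitRel.Quotient B S) := Fintype.ofFinite _
    rw [Nat.card_congr (MulAction.selfEquivSigmaOrbits B S), Nat.card_sigma]
    refine Finset.dvd_sum fun q _ => ?_
    refine dvd_of_eq ?_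
    have h1 := hidx x'
    have h2 := hidx q.out
    have hB : B.index ≠ 0 := Subgroup.index_ne_zero_of_finite
    exact Nat.eq_of_mul_eq_mul_right (Nat.pos_of_ne_zero hB) (h1.trans h2.symm)
  have h1 : Nat.card (MulAction.orbit B x') = 1 := by
    refine Nat.eq_one_of_dvd_coprimes hcop ?_ ⟨_, (hidx x').symm⟩
    exact hdvd
  intro b hb
  have : Subsingleton (MulAction.orbit B x') := (Nat.card_eq_one_iff_unique.1 h1).1
  have h2 : (⟨(⟨b, hb⟩ : B) • x', MulAction.mem_orbit _ _⟩ : MulAction.orbit B x') =
      ⟨x', MulAction.mem_orbit_self _⟩ := Subsingleton.elim _ _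
  rw [MulAction.mem_stabilizer_iff]
  exact congrArg (fun z : MulAction.orbit B x' => ((z : S) : Ω)) h2

end CfsgLib.ThreeHalves
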