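import Cfsg.Agent.ThreeHalves.Basic

/-!
# Half-transitive groups with a regular normal subgroup

A regular normal subgroup `N` of a finite 3/2-transitive group that is not a Frobenius group is
elementary abelian and has no non-trivial proper subgroup invariant under a point stabiliser.
-/

set_option autoImplicit false

namespace CfsgLib.ThreeHalves

variable {G Ω : Type*} [Group G] [MulAction G Ω]

/-- The data: `N` regular normal, all `G_a`-orbits off `a` of size `k`, not Frobenius. -/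
structure Setup (N : Subgroup G) (a : Ω) (k : ℕ) : Prop where
  normal : N.Normal
  inj : ∀ m ∈ N, ∀ n ∈ N, m • a = n • a → m = n
  surj : ∀ b : Ω, ∃ n ∈ N, n • a = b
  orbit : ∀ b : Ω, b ≠ a → Nat.card (MulAction.orbit (MulAction.stabilizer G a) b) = k
  notFree : ∃ h : G, h • a = a ∧ h ≠ 1 ∧ ∃ b : Ω, b ≠ a ∧ h • b = b

namespace Setup

variable {N : Subgroup G} {a : Ω} {k : ℕ}

/-- The stabiliser in `G_a` of the point `n • a`. -/
def stab (a : Ω) (n : G) : Subgroup (MulAction.stabilizer G a) :=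
  MulAction.stabilizer (MulAction.stabilizer G a) (n • a)

theorem smul_eq (s : Setup N a k) {n : G} (hn : n ∈ N) (h : MulAction.stabilizer G a) :
    (h : G) • n • a = ((h : G) * n * (h : G)⁻¹) • a := by
  rw [mul_smul, mul_smul, inv_smul_eq_iff.2 (MulAction.mem_stabilizer_iff.1 h.2).symm]

theorem conj_mem (s : Setup N a k) {n : G} (hn : n ∈ N) (g : G) : g * n * g⁻¹ ∈ N :=
  s.normal.conj_mem n hn g

theorem mem_stab (s : Setup N a k) {n : G} (hn : n ∈ N) {h : MulAction.stabilizer G a} :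
    h ∈ stab a n ↔ (h : G) * n * (h : G)⁻¹ = n := by
  rw [stab, MulAction.mem_stabilizer_iff, Subgroup.smul_def, s.smul_eq hn h]
  exact ⟨fun e => s.inj _ (s.conj_mem hn _) _ hn e, fun e => by rw [e]⟩

theorem smul_ne (s : Setup N a k) {n : G} (hn : n ∈ N) (h1 : n ≠ 1) : n • a ≠ a := fun e =>
  h1 (s.inj n hn 1 N.one_mem (by rw [e, one_smul]))

variable [Finite G] [Finite Ω]

theorem stab_eq_of_le (s : Setup N a k) {m n : G} (hm : m ∈ N) (hn : n ∈ N) (hm1 : m ≠ 1)
    (hn1 : n ≠ 1) (h : stab a m ≤ stab a n) : stab a m = stab a n := by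
  refine Subgroup.eq_of_le_of_card_ge h (le_of_eq ?_)
  have key : ∀ l ∈ N, l ≠ 1 → k * Nat.card (stab a l) = Nat.card (MulAction.stabilizer G a) := by
    intro l hl hl1
    rw [← s.orbit _ (s.smul_ne hl hl1), Nat.card_coe_set_eq, ← MulAction.index_stabilizer]
    exact Subgroup.index_mul_card _
  have hk : 0 < k := by
    rw [← s.orbit _ (s.smul_ne hm hm1)]
    have : Nonempty (MulAction.orbit (MulAction.stabilizer G a) (m • a)) :=
      ⟨⟨_, MulAction.mem_orbit_self _⟩⟩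
    exact Nat.card_pos
  exact Nat.eq_of_mul_eq_mul_left hk ((key n hn hn1).trans (key m hm hm1).symm)

theorem card_eq (s : Setup N a k) : Nat.card N = Nat.card Ω :=
  Nat.card_eq_of_bijective (fun n : N => (n : G) • a)
    ⟨fun m n e => Subtype.ext (s.inj _ m.2 _ n.2 e), fun b => by
      obtain ⟨n, hn, e⟩ := s.surj b
      exact ⟨⟨n, hn⟩, e⟩⟩

/-- The orbit size is prime to the degree. -/
theorem coprime (s : Setup N a k) : (Nat.card N).Coprime k := by
  classical
  rw [s.card_eq]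
  let S : SubMulAction (MulAction.stabilizer G a) Ω :=
    { carrier := {b | b ≠ a}
      smul_mem' := fun h b hb e => hb (by
        have h1 : (h : G) • b = a := e
        rw [← inv_smul_smul (h : G) b, h1]
        exact inv_smul_eq_iff.2 (MulAction.mem_stabilizer_iff.1 h.2).symm) }
  have hS : Nat.card S + 1 = Nat.card Ω := by
    have h1 : Nat.card S = ({a}ᶜ : Set Ω).ncard := by
      rw [← Nat.card_coe_set_eq]
      rfl
    rw [h1, ← Set.ncard_add_ncard_compl ({a} : Set Ω), Set.ncard_singleton, add_comm]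
  have hdvd : k ∣ Nat.card S := by
    have : Fintype (MulAction.orbitRel.Quotient (MulAction.stabilizer G a) S) := Fintype.ofFinite _
    rw [Nat.card_congr (MulAction.selfEquivSigmaOrbits (MulAction.stabilizer G a) S), Nat.card_sigma]
    refine Finset.dvd_sum fun q _ => dvd_of_eq ?_
    rw [← s.orbit q.out.1 q.out.2, Nat.card_coe_set_eq, Nat.card_coe_set_eq,
      ← MulAction.index_stabilizer, ← MulAction.index_stabilizer]
    congr 1
    ext h
    simp only [MulAction.mem_stabilizer_iff, Subtype.ext_iff]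
    rfl
  rw [← hS]
  exact Nat.Coprime.coprime_dvd_right hdvd (by simp)

/-- A subgroup containing the stabilisers of a set of points of `N` of size prime to `k` that it
preserves, fixes them all. -/
theorem fix_set (s : Setup N a k) (B : Subgroup (MulAction.stabilizer G a)) (C : Set G)
    (hCN : ∀ c ∈ C, c ∈ N ∧ c ≠ 1) (hC : Nat.card C ∣ Nat.card N)
    (hB : ∀ b ∈ B, ∀ c ∈ C, (b : G) * c * (b : G)⁻¹ ∈ C) (hstab : ∀ c ∈ C, stab a c ≤ B) :
    ∀ c ∈ C, B ≤ stab a c := by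
  intro c hc
  refine fix_of_coprime k B ((fun c => c • a) '' C) ?_ ?_ ?_ ?_ _ ⟨c, hc, rfl⟩
  · rintro b hb _ ⟨d, hd, rfl⟩
    exact ⟨_, hB b hb d hd, (s.smul_eq (hCN d hd).1 b).symm⟩
  · rintro _ ⟨d, hd, rfl⟩
    exact hstab d hd
  · rintro _ ⟨d, hd, rfl⟩
    exact s.orbit _ (s.smul_ne (hCN d hd).1 (hCN d hd).2)
  · rw [Nat.card_image_of_injOn fun x hx y hy e => s.inj x (hCN x hx).1 y (hCN y hy).1 e]
    exact Nat.Coprime.coprime_dvd_left hC s.coprime

theorem contra_of_common (s : Setup N a k) (m : G) (hm : m ∈ N) (hm1 : m ≠ 1)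
    (h : ∀ n ∈ N, n ≠ 1 → stab a m = stab a n) [FaithfulSMul G Ω] : False := by
  obtain ⟨g, hga, hg1, b, hba, hgb⟩ := s.notFree
  obtain ⟨n, hn, rfl⟩ := s.surj b
  have hn1 : n ≠ 1 := fun e => hba (by rw [e, one_smul])
  have hgm : (⟨g, hga⟩ : MulAction.stabilizer G a) ∈ stab a m := by
    rw [h n hn hn1]
    exact hgb
  refine hg1 (eq_of_smul_eq_smul (α := Ω) fun c => ?_)
  rw [one_smul]
  obtain ⟨l, hl, rfl⟩ := s.surj c
  by_cases hl1 : l = 1
  · rw [hl1, one_smul]
    exact hga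
  · rw [h l hl hl1] at hgm
    exact hgm

variable [FaithfulSMul G Ω]

/-- A point stabiliser normalises no non-trivial proper subgroup of `N`. -/
theorem eq_of_invariant (s : Setup N a k) (U : Subgroup G) (hUN : U ≤ N) (hU : U ≠ ⊥)
    (hinv : ∀ h : MulAction.stabilizer G a, ∀ u ∈ U, (h : G) * u * (h : G)⁻¹ ∈ U) : U = N := by
  by_contra hne
  have hlt : ¬ N ≤ U := fun h => hne (le_antisymm hUN h)
  obtain ⟨u₀, hu₀, hu₀1⟩ := (Subgroup.ne_bot_iff_exists_ne_one.1 hU).elim fun u hu =>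
    (⟨u.1, u.2, fun e => hu (Subtype.ext e)⟩ : ∃ u ∈ U, u ≠ (1 : G))
  have key : ∀ y ∈ N, y ∉ U → ∀ u ∈ U, u ≠ 1 → stab a y = stab a u := by
    intro y hy hyU u hu hu1
    let B : Subgroup (MulAction.stabilizer G a) :=
      { carrier := {h | y⁻¹ * ((h : G) * y * (h : G)⁻¹) ∈ U}
        one_mem' := by simp
        mul_mem' := fun {h g} hh hg => by
          have h1 := U.mul_mem hh (hinv h _ hg)
          simp only [Set.mem_ofPred_eq, Subgroup.coe_mul] at h1 ⊢
          convert h1 using 1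
          group
        inv_mem' := fun {h} hh => by
          have h1 := hinv h⁻¹ _ (U.inv_mem hh)
          simp only [Set.mem_ofPred_eq, Subgroup.coe_inv] at h1 ⊢
          convert h1 using 1
          group }
    let C : Set G := (fun v => y * v) '' (U : Set G)
    have hC : ∀ c ∈ C, c ∈ N ∧ c ≠ 1 := by
      rintro _ ⟨v, hv, rfl⟩
      refine ⟨N.mul_mem hy (hUN hv), fun e => hyU ?_⟩
      rw [eq_inv_of_mul_eq_one_left e]
      exact U.inv_mem hv
    have hcard : Nat.card C ∣ Nat.card N := by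
      rw [Nat.card_image_of_injective (mul_right_injective y)]
      exact Subgroup.card_dvd_of_le hUN
    have hB : ∀ b ∈ B, ∀ c ∈ C, (b : G) * c * (b : G)⁻¹ ∈ C := by
      rintro b hb _ ⟨v, hv, rfl⟩
      refine ⟨_, U.mul_mem hb (hinv b v hv), ?_⟩
      show y * (y⁻¹ * ((b : G) * y * (b : G)⁻¹) * ((b : G) * v * (b : G)⁻¹)) = _
      group
    have hst : ∀ c ∈ C, stab a c ≤ B := by
      rintro _ ⟨v, hv, rfl⟩ h hh
      rw [s.mem_stab (N.mul_mem hy (hUN hv))] at hh
      show y⁻¹ * ((h : G) * y * (h : G)⁻¹) ∈ U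
      have h1 := U.mul_mem hv (U.inv_mem (hinv h v hv))
      convert h1 using 1
      calc y⁻¹ * ((h : G) * y * (h : G)⁻¹)
          = y⁻¹ * ((h : G) * (y * v) * (h : G)⁻¹) * ((h : G) * v⁻¹ * (h : G)⁻¹) := by group
        _ = y⁻¹ * (y * v) * ((h : G) * v⁻¹ * (h : G)⁻¹) := by rw [hh]
        _ = _ := by group
    have hy1 : y ≠ 1 := fun e => hyU (e ▸ U.one_mem)
    refine s.stab_eq_of_le hy (hUN hu) hy1 hu1 fun h hh => ?_
    have hhB : h ∈ B := hst y ⟨1, U.one_mem, mul_one y⟩ hh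
    have h2 := s.fix_set B C hC hcard hB hst _ ⟨u, hu, rfl⟩ hhB
    rw [s.mem_stab (N.mul_mem hy (hUN hu))] at h2
    rw [s.mem_stab hy] at hh
    rw [s.mem_stab (hUN hu)]
    calc (h : G) * u * (h : G)⁻¹
        = ((h : G) * y * (h : G)⁻¹)⁻¹ * ((h : G) * (y * u) * (h : G)⁻¹) := by group
      _ = _ := by rw [hh, h2]; group
  obtain ⟨y₀, hy₀, hy₀U⟩ := Set.not_subset.1 hlt
  refine s.contra_of_common u₀ (hUN hu₀) hu₀1 fun n hn hn1 => ?_
  by_cases hnU : n ∈ U
  · rw [← key y₀ hy₀ hy₀U u₀ hu₀ hu₀1, key y₀ hy₀ hy₀U n hnU hn1]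
  · exact (key n hn hnU u₀ hu₀ hu₀1).symm

/-- Conjugate elements of `N` have the same stabiliser. -/
theorem stab_conj (s : Setup N a k) {x m : G} (hx : x ∈ N) (hx1 : x ≠ 1) (hm : m ∈ N) :
    stab a x = stab a (m * x * m⁻¹) := by
  let B : Subgroup (MulAction.stabilizer G a) :=
    { carrier := {h | ∃ n ∈ N, (h : G) * x * (h : G)⁻¹ = n * x * n⁻¹}
      one_mem' := ⟨1, N.one_mem, by simp⟩
      mul_mem' := fun {h g} hh hg => by
        obtain ⟨n, hn, e⟩ := hh
        obtain ⟨l, hl, e'⟩ := hg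
        refine ⟨(h : G) * l * (h : G)⁻¹ * n, N.mul_mem (s.conj_mem hl _) hn, ?_⟩
        calc ((h * g : MulAction.stabilizer G a) : G) * x * ((h * g : MulAction.stabilizer G a) : G)⁻¹
            = (h : G) * ((g : G) * x * (g : G)⁻¹) * (h : G)⁻¹ := by rw [Subgroup.coe_mul]; group
          _ = ((h : G) * l * (h : G)⁻¹) * ((h : G) * x * (h : G)⁻¹) *
              ((h : G) * l * (h : G)⁻¹)⁻¹ := by rw [e']; group
          _ = _ := by rw [e]; group
      inv_mem' := fun {h} hh => by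
        obtain ⟨n, hn, e⟩ := hh
        refine ⟨((h : G)⁻¹ * n * ((h : G)⁻¹)⁻¹)⁻¹, N.inv_mem (s.conj_mem hn _), ?_⟩
        calc ((h⁻¹ : MulAction.stabilizer G a) : G) * x * ((h⁻¹ : MulAction.stabilizer G a) : G)⁻¹
            = (h : G)⁻¹ * (n⁻¹ * (n * x * n⁻¹) * n) * (h : G) := by rw [Subgroup.coe_inv]; group
          _ = _ := by rw [← e]; group }
  let C : Set G := (fun n : N => (n : G) * x * (n : G)⁻¹) '' Set.univ
  have hC : ∀ c ∈ C, c ∈ N ∧ c ≠ 1 := by
    rintro _ ⟨n, -, rfl⟩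
    exact ⟨s.conj_mem hx _, fun e => hx1 (conj_eq_one_iff.1 e)⟩
  have hcard : Nat.card C ∣ Nat.card N := by
    have h1 : C = (fun y : N => (y : G)) '' MulAction.orbit (ConjAct N) (⟨x, hx⟩ : N) := by
      ext c
      constructor
      · rintro ⟨n, -, rfl⟩
        exact ⟨_, ⟨ConjAct.toConjAct n, rfl⟩, by simp [ConjAct.toConjAct_smul]⟩
      · rintro ⟨_, ⟨g, rfl⟩, rfl⟩
        exact ⟨ConjAct.ofConjAct g, trivial, by simp [ConjAct.smul_def]⟩
    rw [h1, Nat.card_image_of_injective Subtype.val_injective, Nat.card_coe_set_eq,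
      ← MulAction.index_stabilizer]
    exact (Subgroup.index_dvd_card _).trans (dvd_of_eq (Nat.card_congr ConjAct.ofConjAct.toEquiv))
  have hB : ∀ b ∈ B, ∀ c ∈ C, (b : G) * c * (b : G)⁻¹ ∈ C := by
    rintro b ⟨l, hl, e⟩ _ ⟨n, -, rfl⟩
    refine ⟨⟨(b : G) * (n : G) * (b : G)⁻¹ * l, N.mul_mem (s.conj_mem n.2 _) hl⟩, trivial, ?_⟩
    calc ((b : G) * (n : G) * (b : G)⁻¹ * l) * x * ((b : G) * (n : G) * (b : G)⁻¹ * l)⁻¹
        = ((b : G) * (n : G) * (b : G)⁻¹) * (l * x * l⁻¹) * ((b : G) * (n : G) * (b : G)⁻¹)⁻¹ := by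
          group
      _ = _ := by rw [← e]; group
  have hst : ∀ c ∈ C, stab a c ≤ B := by
    rintro _ ⟨n, -, rfl⟩ h hh
    rw [s.mem_stab (s.conj_mem hx _)] at hh
    refine ⟨((h : G) * (n : G) * (h : G)⁻¹)⁻¹ * n,
      N.mul_mem (N.inv_mem (s.conj_mem n.2 _)) n.2, ?_⟩
    calc (h : G) * x * (h : G)⁻¹ = ((h : G) * (n : G) * (h : G)⁻¹)⁻¹ *
          ((h : G) * ((n : G) * x * (n : G)⁻¹) * (h : G)⁻¹) *
          ((h : G) * (n : G) * (h : G)⁻¹) := by group
      _ = _ := by rw [hh]; group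
  have hmx : m * x * m⁻¹ ∈ C := ⟨⟨m, hm⟩, trivial, rfl⟩
  refine s.stab_eq_of_le hx (s.conj_mem hx _) hx1 (fun e => hx1 (conj_eq_one_iff.1 e)) ?_
  exact le_trans (hst x ⟨1, trivial, by simp⟩) (s.fix_set B C hC hcard hB hst _ hmx)

end Setup

end CfsgLib.ThreeHalves
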